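import Cfsg.Agent.Lib.Golay.M24
import Cfsg.Agent.Lib.SporStruct.Masks

/-!
# Configurations of sets in the group of the length-24 code

`Fixes ms` is the subgroup fixing each of the sets coded by the masks `ms`.  A `Step` is a certificate
(explicit elements fixing `ms`, and a spanning tree) that this subgroup is transitive on a list of
target masks.
-/

set_option autoImplicit false

namespace Cfsg.Agent.Lib.M24Config

open Cfsg Cfsg.Agent.Lib.Golay Cfsg.Agent.Lib.Computation Cfsg.Agent.Lib.SporStruct.Masks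
open scoped Pointwise

/-- The elements of the code's group fixing every set in the list. -/
def Fixes (ms : List ℕ) : Subgroup (Equiv.Perm GolayPt) where
  carrier := {g | g ∈ M24 ∧ ∀ m ∈ ms, g • setOfMask m = setOfMask m}
  one_mem' := ⟨Subgroup.one_mem _, fun _ _ => one_smul _ _⟩
  mul_mem' := fun {a b} ha hb => ⟨Subgroup.mul_mem _ ha.1 hb.1,
    fun m hm => by rw [mul_smul, hb.2 m hm, ha.2 m hm]⟩
  inv_mem' := fun {a} ha => ⟨Subgroup.inv_mem _ ha.1,
    fun m hm => inv_smul_eq_iff.2 (ha.2 m hm).symm⟩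

theorem mem_fixes {ms : List ℕ} {g : Equiv.Perm GolayPt} :
    g ∈ Fixes ms ↔ g ∈ M24 ∧ ∀ m ∈ ms, g • setOfMask m = setOfMask m := Iff.rfl

theorem fixes_le_M24 (ms : List ℕ) : Fixes ms ≤ M24 := fun _ h => h.1

theorem fixes_nil : Fixes [] = M24 := by
  ext g; simp [mem_fixes]

theorem card_fixes_nil : Nat.card (Fixes []) = 244823040 := by
  rw [fixes_nil, card_M24]

theorem fixes_mono {ms ms' : List ℕ} (h : ∀ m ∈ ms, m ∈ ms') : Fixes ms' ≤ Fixes ms :=
  fun _ hg => ⟨hg.1, fun m hm => hg.2 m (h m hm)⟩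

/-- The subgroup generated by coded permutations. -/
noncomputable def gsub (cs : List ℕ) : Subgroup (Equiv.Perm GolayPt) :=
  Subgroup.closure (gperm '' {c | c ∈ cs})

theorem gperm_mem_gsub {cs : List ℕ} {c : ℕ} (h : c ∈ cs) : gperm c ∈ gsub cs :=
  Subgroup.subset_closure ⟨c, h, rfl⟩

/-- The codes are elements of the code's group fixing the masks. -/
def gensOk (cs ms : List ℕ) : Bool :=
  cs.all fun c => inM24 c && ms.all fun m => Nat.beq (permMask c m) m

theorem gperm_mem_fixes {cs ms : List ℕ} (h : gensOk cs ms = true) {c : ℕ} (hc : c ∈ cs) :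
    gperm c ∈ Fixes ms := by
  simp only [gensOk, List.all_eq_true, Bool.and_eq_true, Nat.beq_eq] at h
  refine ⟨gperm_mem_M24 (h c hc).1, fun m hm => ?_⟩
  rw [smul_setOfMask (okCode_of_inM24 (h c hc).1), (h c hc).2 m hm]

theorem gsub_le_fixes {cs ms : List ℕ} (h : gensOk cs ms = true) : gsub cs ≤ Fixes ms := by
  rw [gsub, Subgroup.closure_le]
  rintro _ ⟨c, hc, rfl⟩
  exact gperm_mem_fixes h hc

/-! ### singletons -/

theorem setOfMask_single (p : GolayPt) : setOfMask (2 ^ idx p) = {p} := by
  ext q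
  simp [Nat.testBit_two_pow, idx_injective.eq_iff, eq_comm]

theorem maskOfSet_single (p : GolayPt) : maskOfSet ({p} : Finset GolayPt) = 2 ^ idx p := by
  simp [maskOfSet]

theorem smul_single_iff {g : Equiv.Perm GolayPt} {p q : GolayPt} :
    g • ({p} : Finset GolayPt) = {q} ↔ g p = q := by
  simp [Equiv.Perm.smul_def]

theorem inter_card_smul (g : Equiv.Perm GolayPt) (s t : Finset GolayPt) :
    ((g • s) ∩ (g • t)).card = (s ∩ t).card := by
  rw [← Finset.smul_finset_inter, Finset.card_smul_finset]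

theorem mem_smul_iff' (g : Equiv.Perm GolayPt) (s : Finset GolayPt) (p : GolayPt) :
    g p ∈ g • s ↔ p ∈ s :=
  Finset.smul_mem_smul_finset_iff g

/-! ### universes of masks -/

/-- The masks with `k` ones among the lowest `n` digits. -/
def ksub : ℕ → ℕ → List ℕ
  | _, 0 => [0]
  | 0, _ + 1 => []
  | n + 1, k + 1 => (ksub n k).map (fun m => 2 * m + 1) ++ (ksub n (k + 1)).map (fun m => 2 * m)

theorem mem_ksub : ∀ (n k m : ℕ), m < 2 ^ n → pc n m = k → m ∈ ksub n k
  | 0, 0, m, hm, _ => by simp at hm; simp [ksub, hm]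
  | 0, k + 1, m, _, h => by simp [pc] at h
  | n + 1, 0, m, hm, h => by
    simp only [pc, Nat.add_eq_zero_iff] at h
    have hlt : m / 2 < 2 ^ n := by rw [pow_succ] at hm; omega
    have h1 := mem_ksub n 0 (m / 2) hlt h.2
    simp only [ksub, List.mem_singleton] at h1 ⊢
    omega
  | n + 1, k + 1, m, hm, h => by
    simp only [pc] at h
    have hlt : m / 2 < 2 ^ n := by rw [pow_succ] at hm; omega
    rw [ksub, List.mem_append]
    rcases Nat.mod_two_eq_zero_or_one m with h2 | h2
    · exact Or.inr (List.mem_map.2 ⟨_, mem_ksub n (k + 1) (m / 2) hlt (by omega), by omega⟩)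
    · exact Or.inl (List.mem_map.2 ⟨_, mem_ksub n k (m / 2) hlt (by omega), by omega⟩)

theorem maskOfSet_mem_ksub {s : Finset GolayPt} {k : ℕ} (h : s.card = k) :
    maskOfSet s ∈ ksub 24 k :=
  mem_ksub 24 k _ (maskOfSet_lt s) (by rw [← pc24_eq, ← card_eq_pc24, h])

theorem maskOfSet_mem_weight {s : Finset GolayPt} {n : ℕ}
    (h : s ∈ wordsOfWeight (golayCode : Set (GolayPt → ZMod 2)) n) :
    maskOfSet s ∈ masksOfWeight n := by
  obtain ⟨m, hm, rfl⟩ := mem_wordsOfWeight_iff.1 h
  rwa [maskOfSet_setOfMask]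
  obtain ⟨k, hk, rfl⟩ := inCode_iff.1 (mem_masksOfWeight.1 hm).1
  exact enc_lt hk

theorem setOfMask_mem_weight {m n : ℕ} (h : m ∈ masksOfWeight n) :
    setOfMask m ∈ wordsOfWeight (golayCode : Set (GolayPt → ZMod 2)) n :=
  mem_wordsOfWeight_iff.2 ⟨m, h, rfl⟩

/-- The number of sets satisfying a property, from a list of masks. -/
theorem ncard_sets {P : Finset GolayPt → Prop} {l : List ℕ} (hnd : l.Nodup)
    (hlt : ∀ m ∈ l, m < 2 ^ 24) (h1 : ∀ s, P s → maskOfSet s ∈ l)
    (h2 : ∀ m ∈ l, P (setOfMask m)) : {s | P s}.ncard = l.length := by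
  have he : {s | P s} = setOfMask '' (l.toFinset : Set ℕ) := by
    ext s
    simp only [Set.mem_ofPred_eq, Set.mem_image, List.coe_toFinset]
    exact ⟨fun h => ⟨_, h1 s h, setOfMask_maskOfSet s⟩, fun ⟨m, hm, e⟩ => e ▸ h2 m hm⟩
  rw [he, Set.InjOn.ncard_image, Set.ncard_coe_finset, List.toFinset_card_of_nodup hnd]
  intro a ha b hb h
  simp only [List.coe_toFinset, Set.mem_ofPred_eq] at ha hb
  exact setOfMask_injOn (hlt a ha) (hlt b hb) h

/-! ### spanning trees -/

/-- Replay of the first `k` edges of a packed tree (32 digits per edge: target, source, generator);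
the result is the mask of the indices reached, or `0` after a bad edge. -/
def treeGo (edge : ℕ → ℕ → ℕ → Bool) (cs : List ℕ) (get : ℕ → ℕ) (tree r : ℕ) : ℕ → ℕ
  | 0 => 2 ^ r
  | k + 1 => forceNat (treeGo edge cs get tree r k) fun vis =>
      forceNat (getW 32 tree k) fun e =>
        bif vis.testBit (e / 4096 % 4096) && Nat.blt (e / 16777216) cs.length &&
          edge (cs.getD (e / 16777216) 0) (get (e / 4096 % 4096)) (get (e % 4096))
        then vis ||| 2 ^ (e % 4096) else 0

/-- The tree connects all of `0, ..., n - 1`. -/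
def orbitOk (edge : ℕ → ℕ → ℕ → Bool) (cs : List ℕ) (get : ℕ → ℕ) (n tree : ℕ) : Bool :=
  Nat.beq (treeGo edge cs get tree 0 (n - 1)) (2 ^ n - 1)

theorem orbit_spec {X : Type*} [MulAction (Equiv.Perm GolayPt) X] (dec : ℕ → X)
    {edge : ℕ → ℕ → ℕ → Bool} {cs : List ℕ}
    (hedge : ∀ c ∈ cs, ∀ a b, edge c a b = true → gperm c • dec a = dec b)
    {get : ℕ → ℕ} {n tree : ℕ} (h : orbitOk edge cs get n tree = true) {i j : ℕ} (hi : i < n)
    (hj : j < n) : ∃ g ∈ gsub cs, g • dec (get i) = dec (get j) := by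
  have key : ∀ k x, (treeGo edge cs get tree 0 k).testBit x = true →
      ∃ g ∈ gsub cs, g • dec (get 0) = dec (get x) := by
    intro k
    induction k with
    | zero =>
      intro x hx
      rw [treeGo, Nat.testBit_two_pow, decide_eq_true_eq] at hx
      subst hx
      exact ⟨1, Subgroup.one_mem _, one_smul _ _⟩
    | succ k ih =>
      intro x hx
      simp only [treeGo, forceNat_eq] at hx
      set e := getW 32 tree k
      cases hb : ((treeGo edge cs get tree 0 k).testBit (e / 4096 % 4096) &&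
          Nat.blt (e / 16777216) cs.length &&
          edge (cs.getD (e / 16777216) 0) (get (e / 4096 % 4096)) (get (e % 4096))) with
      | false => rw [hb, cond_false] at hx; simp at hx
      | true =>
        simp only [hb, cond_true, Nat.testBit_or, Bool.or_eq_true, Nat.testBit_two_pow,
          decide_eq_true_eq] at hx
        rcases hx with hx | rfl
        · exact ih x hx
        · simp only [Bool.and_eq_true, Nat.blt_eq] at hb
          obtain ⟨⟨h1, h2⟩, h3⟩ := hb
          obtain ⟨g, hg, hge⟩ := ih _ h1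
          have hmem : cs.getD (e / 16777216) 0 ∈ cs := by
            rw [List.getD_eq_getElem _ _ h2]; exact List.getElem_mem _
          refine ⟨gperm (cs.getD (e / 16777216) 0) * g,
            Subgroup.mul_mem _ (gperm_mem_gsub hmem) hg, ?_⟩
          rw [mul_smul, hge, hedge _ hmem _ _ h3]
  have hall : ∀ x < n, ∃ g ∈ gsub cs, g • dec (get 0) = dec (get x) := by
    intro x hx
    refine key (n - 1) x ?_
    simp only [orbitOk, Nat.beq_eq] at h
    rw [h, Nat.testBit_two_pow_sub_one]
    simpa using hx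
  obtain ⟨a, ha, hai⟩ := hall i hi
  obtain ⟨b, hb, hbj⟩ := hall j hj
  exact ⟨b * a⁻¹, Subgroup.mul_mem _ hb (Subgroup.inv_mem _ ha),
    by rw [mul_smul, ← hai, inv_smul_smul, hbj]⟩

/-- A certificate of transitivity on a packed list of masks. -/
structure Step where
  /-- the fixed masks -/
  ms : List ℕ
  /-- elements fixing them -/
  cs : List ℕ
  /-- number of targets -/
  n : ℕ
  /-- the targets, 24 digits each -/
  packed : ℕ
  /-- the spanning tree -/
  tree : ℕ

namespace Step

/-- The `i`-th target. -/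
def get (S : Step) (i : ℕ) : ℕ := getW 24 S.packed i

/-- The certificate is valid for the list of targets `l`. -/
def ok (S : Step) (l : List ℕ) : Bool :=
  gensOk S.cs S.ms && orbitOk (fun c a b => Nat.beq (permMask c a) b) S.cs S.get S.n S.tree &&
    l == (List.range S.n).map S.get

theorem transitive {S : Step} {l : List ℕ} (h : S.ok l = true) {a b : ℕ} (ha : a ∈ l)
    (hb : b ∈ l) : ∃ g ∈ Fixes S.ms, g • setOfMask a = setOfMask b := by
  simp only [ok, Bool.and_eq_true, beq_iff_eq] at h
  obtain ⟨⟨hg, ho⟩, rfl⟩ := h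
  obtain ⟨i, hi, rfl⟩ := List.mem_map.1 ha
  obtain ⟨j, hj, rfl⟩ := List.mem_map.1 hb
  obtain ⟨g, hgm, he⟩ := orbit_spec setOfMask
    (fun c hc x y hxy => by
      have hc' : inM24 c = true := by
        simp only [gensOk, List.all_eq_true, Bool.and_eq_true] at hg
        exact (hg c hc).1
      rw [smul_setOfMask (okCode_of_inM24 hc'), Nat.eq_of_beq_eq_true hxy])
    ho (List.mem_range.1 hi) (List.mem_range.1 hj)
  exact ⟨g, gsub_le_fixes hg hgm, he⟩

theorem transitive_sets {S : Step} {l : List ℕ} (h : S.ok l = true) {s : Finset GolayPt} {b : ℕ}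
    (hs : maskOfSet s ∈ l) (hb : b ∈ l) : ∃ g ∈ Fixes S.ms, g • s = setOfMask b := by
  obtain ⟨g, hg, he⟩ := transitive h hs hb
  exact ⟨g, hg, by rwa [setOfMask_maskOfSet] at he⟩

/-- The stabiliser of a target is small. -/
theorem card_fixes_le {S : Step} {l : List ℕ} (h : S.ok l = true) (hnd : l.Nodup)
    (hlt : ∀ m ∈ l, m < 2 ^ 24) {b : ℕ} (hb : b ∈ l) :
    Nat.card (Fixes (b :: S.ms)) * S.n ≤ Nat.card (Fixes S.ms) := by
  classical
  let K := Fixes S.ms
  let St := MulAction.stabilizer ↥K (setOfMask b)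
  have hlen : l.length = S.n := by
    simp only [ok, Bool.and_eq_true, beq_iff_eq] at h
    rw [h.2, List.length_map, List.length_range]
  have h1 : Nat.card (Fixes (b :: S.ms)) = Nat.card St := by
    refine Nat.card_congr
      { toFun := fun g => ⟨⟨g.1, fixes_mono (fun m hm => List.mem_cons_of_mem _ hm) g.2⟩, ?_⟩
        invFun := fun g => ⟨g.1.1, ?_⟩
        left_inv := fun g => rfl
        right_inv := fun g => rfl }
    · exact g.2.2 b List.mem_cons_self
    · refine ⟨g.1.2.1, fun m hm => ?_⟩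
      rcases List.mem_cons.1 hm with rfl | hm
      · exact g.2
      · exact g.1.2.2 m hm
  have h2 : S.n ≤ Nat.card (MulAction.orbit ↥K (setOfMask b)) := by
    let f : Fin l.length → MulAction.orbit ↥K (setOfMask b) := fun i =>
      ⟨setOfMask (l.get i), by
        obtain ⟨g, hg, he⟩ := transitive h hb (List.get_mem l i)
        exact ⟨⟨g, hg⟩, he⟩⟩
    have hf : Function.Injective f := fun i j hij =>
      List.nodup_iff_injective_get.1 hnd (setOfMask_injOn (hlt _ (List.get_mem l i))
        (hlt _ (List.get_mem l j)) (congrArg Subtype.val hij))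
    have := Nat.card_le_card_of_injective f hf
    rwa [Nat.card_fin, hlen] at this
  rw [h1]
  have h3 : Nat.card (MulAction.orbit ↥K (setOfMask b)) * Nat.card St = Nat.card K := by
    rw [← Nat.card_prod, Nat.card_congr (MulAction.orbitProdStabilizerEquivGroup ↥K (setOfMask b))]
  calc Nat.card St * S.n ≤ Nat.card St * Nat.card (MulAction.orbit ↥K (setOfMask b)) :=
        Nat.mul_le_mul_left _ h2
    _ = Nat.card K := by rw [mul_comm, h3]

end Step

end Cfsg.Agent.Lib.M24Config
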