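import Cfsg.Agent.Lib.M24Config.Graph

/-!
# Conjugacy certificates in subgroups of the code's group
-/

set_option autoImplicit false

namespace Cfsg.Agent.Lib.M24Config

open Cfsg Cfsg.Agent.Lib.Golay Cfsg.Agent.Lib.Computation
open scoped Pointwise

/-- Permutations of the points with the conjugation action. -/
structure ConjPt where
  /-- the permutation -/
  val : Equiv.Perm GolayPt

instance conjPtAction : MulAction (Equiv.Perm GolayPt) ConjPt where
  smul g x := ⟨g * x.val * g⁻¹⟩
  one_smul x := by show ConjPt.mk _ = x; simp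
  mul_smul a b x := congrArg ConjPt.mk (show (a * b) * x.val * (a * b)⁻¹ = a * (b * x.val * b⁻¹) * a⁻¹ by group)

theorem conjPt_smul (g : Equiv.Perm GolayPt) (x : ConjPt) : g • x = ⟨g * x.val * g⁻¹⟩ := rfl

/-- The element coded by a number, as a point of the conjugation action. -/
noncomputable def decC (a : ℕ) : ConjPt := ⟨gperm a⟩

/-- The first code conjugates the second to the third. -/
def edgeC (c a b : ℕ) : Bool :=
  okCode a && okCode b && Nat.beq (mulP 24 5 c a) (mulP 24 5 b c)

theorem edgeC_mul {c a b : ℕ} (hc : okCode c = true) (h : edgeC c a b = true) :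
    gperm c * gperm a * (gperm c)⁻¹ = gperm b := by
  simp only [edgeC, Bool.and_eq_true, Nat.beq_eq] at h
  rw [mul_inv_eq_iff_eq_mul, ← gperm_mul hc h.1.1, h.2, gperm_mul h.1.2 hc]

theorem edgeC_spec {c a b : ℕ} (hc : okCode c = true) (h : edgeC c a b = true) :
    gperm c • decC a = decC b := by
  rw [conjPt_smul, decC, decC, edgeC_mul hc h]

theorem gperm_eq_iff {a b : ℕ} (ha : okCode a = true) (hb : okCode b = true) :
    gperm a = gperm b ↔ ∀ i < 24, getW 5 a i = getW 5 b i := by
  constructor
  · intro h i hi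
    have := congrArg (fun s : Equiv.Perm GolayPt => idx (s (pt i))) h
    simpa [idx_gperm ha, idx_gperm hb, idx_pt hi] using this
  · intro h
    refine Equiv.ext fun p => idx_injective ?_
    rw [idx_gperm ha, idx_gperm hb]
    exact h _ (idx_lt p)

/-- Same images at all indices. -/
def sameImg (a b : ℕ) : Bool := (List.range 24).all fun i => Nat.beq (getW 5 a i) (getW 5 b i)

theorem sameImg_iff {a b : ℕ} (ha : okCode a = true) (hb : okCode b = true) :
    sameImg a b = true ↔ gperm a = gperm b := by
  simp [sameImg, gperm_eq_iff ha hb]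

/-- The listed codes are closed under left multiplication by the generators and contain the identity. -/
def listClosed (cs l : List ℕ) : Bool :=
  l.all okCode && cs.all okCode && l.any (fun a => Nat.beq a oneCode) &&
    cs.all fun c => l.all fun a => l.any fun b => sameImg (mulP 24 5 c a) b

theorem gsub_subset_list {cs l : List ℕ} (h : listClosed cs l = true) {g : Equiv.Perm GolayPt}
    (hg : g ∈ gsub cs) : ∃ a ∈ l, gperm a = g := by
  classical
  simp only [listClosed, Bool.and_eq_true, List.all_eq_true, List.any_eq_true, Nat.beq_eq] at h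
  obtain ⟨⟨⟨hl, hcs⟩, o, ho, hoe⟩, hcl⟩ := h
  subst hoe
  set S : Finset (Equiv.Perm GolayPt) := l.toFinset.image gperm with hS
  have hst : gsub cs ≤ MulAction.stabilizer (Equiv.Perm GolayPt) S := by
    rw [gsub, Subgroup.closure_le]
    rintro _ ⟨c, hc, rfl⟩
    show gperm c • S = S
    refine Finset.eq_of_subset_of_card_le ?_ (by rw [Finset.card_smul_finset])
    intro y hy
    obtain ⟨x, hx, rfl⟩ := Finset.mem_smul_finset.1 hy
    obtain ⟨a, ha, rfl⟩ := Finset.mem_image.1 hx
    rw [List.mem_toFinset] at ha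
    obtain ⟨b, hb, he⟩ := hcl c hc a ha
    refine Finset.mem_image.2 ⟨b, List.mem_toFinset.2 hb, ?_⟩
    rw [smul_eq_mul, ← gperm_mul (hcs c hc) (hl a ha)]
    exact ((sameImg_iff (okCode_mulP (hcs c hc) (hl a ha)) (hl b hb)).1 he).symm
  have h1 : g • (1 : Equiv.Perm GolayPt) ∈ g • S :=
    Finset.smul_mem_smul_finset
      (Finset.mem_image.2 ⟨oneCode, List.mem_toFinset.2 ho, gperm_oneCode⟩)
  have hgS : g • S = S := hst hg
  rw [hgS, smul_eq_mul, mul_one, hS, Finset.mem_image] at h1
  obtain ⟨a, ha, he⟩ := h1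
  exact ⟨a, List.mem_toFinset.1 ha, he⟩

/-- An element of prime power order is conjugate into a given Sylow subgroup. -/
theorem exists_conj_mem {K P : Subgroup (Equiv.Perm GolayPt)} (hP : P ≤ K) {p : ℕ} [Fact p.Prime]
    (hcard : Nat.card P = p ^ (Nat.card K).factorization p) {x : Equiv.Perm GolayPt} (hx : x ∈ K)
    {n : ℕ} (hord : orderOf x = p ^ n) : ∃ k ∈ K, k * x * k⁻¹ ∈ P := by
  classical
  have hPK : Nat.card (P.subgroupOf K) = p ^ (Nat.card K).factorization p := by
    rw [Nat.card_congr (Subgroup.subgroupOfEquivOfLe hP).toEquiv, hcard]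
  let S : Sylow p K := Sylow.ofCard (P.subgroupOf K) hPK
  let y : K := ⟨x, hx⟩
  have hy : IsPGroup p (Subgroup.zpowers y) := by
    refine IsPGroup.of_card (n := n) ?_
    rw [Nat.card_zpowers, ← hord]
    exact (Subgroup.orderOf_coe y).symm
  obtain ⟨T, hT⟩ := hy.exists_le_sylow
  obtain ⟨k, hk⟩ := MulAction.exists_smul_eq K T S
  refine ⟨k, k.2, ?_⟩
  have h1 : y ∈ (T : Subgroup K) := hT (Subgroup.mem_zpowers y)
  have h2 : k * y * k⁻¹ ∈ (S : Subgroup K) := by
    rw [← hk, Sylow.coe_subgroup_smul]
    exact ⟨y, h1, rfl⟩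
  exact h2

/-- A conjugacy class in `K` has at least as many elements as a listed part of it. -/
theorem card_centralizer_mul_le {K : Subgroup (Equiv.Perm GolayPt)} {cs : List ℕ}
    (hcs : gsub cs ≤ K) (hok : cs.all okCode = true) {get : ℕ → ℕ} {n tree : ℕ}
    (h : orbitOk edgeC cs get n tree = true)
    (hinj : ∀ i < n, ∀ j < n, gperm (get i) = gperm (get j) → i = j) (hn : 0 < n)
    {x : ↥K} (hx : (x : Equiv.Perm GolayPt) = gperm (get 0)) :
    Nat.card (Subgroup.centralizer ({x} : Set ↥K)) * n ≤ Nat.card K := by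
  classical
  let p : ConjPt := decC (get 0)
  let St := MulAction.stabilizer ↥K p
  have e : Subgroup.centralizer ({x} : Set ↥K) = St := by
    ext k
    rw [Subgroup.mem_centralizer_singleton_iff, MulAction.mem_stabilizer_iff, Subgroup.smul_def,
      conjPt_smul]
    simp only [p, decC, ConjPt.mk.injEq, mul_inv_eq_iff_eq_mul]
    rw [← hx, ← Subgroup.coe_mul, ← Subgroup.coe_mul, Subtype.coe_inj]
  have h2 : n ≤ Nat.card (MulAction.orbit ↥K p) := by
    let f : Fin n → MulAction.orbit ↥K p := fun i => ⟨decC (get i), by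
      obtain ⟨g, hg, he⟩ := orbit_spec decC (fun c hc a b hab =>
        edgeC_spec (List.all_eq_true.1 hok c hc) hab) h hn i.2
      exact ⟨⟨g, hcs hg⟩, he⟩⟩
    haveI : Finite (MulAction.orbit ↥K p) := Set.finite_range _ |>.to_subtype
    have hf : Function.Injective f := fun i j hij =>
      Fin.ext (hinj i i.2 j j.2 (by
        have := congrArg (fun z => (Subtype.val z).val) hij
        simpa [f, decC] using this))
    simpa using Nat.card_le_card_of_injective f hf
  have h3 : Nat.card (MulAction.orbit ↥K p) * Nat.card St = Nat.card K := by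
    rw [← Nat.card_prod, Nat.card_congr (MulAction.orbitProdStabilizerEquivGroup ↥K p)]
  rw [e]
  calc Nat.card St * n ≤ Nat.card St * Nat.card (MulAction.orbit ↥K p) := Nat.mul_le_mul_left _ h2
    _ = Nat.card K := by rw [mul_comm, h3]

end Cfsg.Agent.Lib.M24Config
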