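import Cfsg.Agent.Lib.M24Config.Basic

/-!
# Homomorphisms from subgroups of the code's group given by images of generators

If the subgroup generated by the pairs (generator, image) in the product has the same order as the
subgroup generated by the first components, the pairs are the graph of a homomorphism.
-/

set_option autoImplicit false

namespace Cfsg.Agent.Lib.M24Config

open Cfsg Cfsg.Agent.Lib.Golay Cfsg.Agent.Lib.Computation

/-- The order of a subgroup given by codes, from a certificate. -/
theorem card_gsub {cs : List ℕ} {steps : List (Computation.Step ℕ)} {c : List (Level ℕ)} {N : ℕ}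
    (h : (permRep 24 5 (by decide)).checkClosure cs steps c = true)
    (ho : (permRep 24 5 (by decide)).order c = N) : Nat.card (gsub cs) = N := by
  have e : gperm '' {s | s ∈ cs} = indexHom.toMonoidHom '' (decodeP 24 5 '' {s | s ∈ cs}) := by
    rw [Set.image_image]; rfl
  rw [gsub, e, ← MonoidHom.map_closure, Subgroup.card_map_of_injective indexHom.injective, ← ho]
  exact (permRep 24 5 (by decide)).card_closure h

theorem gsub_eq_fixes {cs ms : List ℕ} (hg : gensOk cs ms = true) {N : ℕ}
    (h1 : Nat.card (gsub cs) = N) (h2 : Nat.card (Fixes ms) ≤ N) : gsub cs = Fixes ms :=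
  Subgroup.eq_of_le_of_card_ge (gsub_le_fixes hg) (by rw [h1]; exact h2)

/-- The code on `Fin (24 + k)` of a pair of permutations. -/
def pairCode (w k a b : ℕ) : ℕ :=
  packW w (fun x => bif Nat.blt x 24 then getW 5 a x else 24 + getW 5 b (x - 24)) (24 + k)

/-- The embedding of pairs into permutations of `Fin (24 + k)`. -/
def pairEmb (k : ℕ) : Equiv.Perm GolayPt × Equiv.Perm (Fin k) →* Equiv.Perm (Fin (24 + k)) :=
  (finSumFinEquiv.permCongrHom.toMonoidHom.comp (Equiv.Perm.sumCongrHom (Fin 24) (Fin k))).comp
    (MonoidHom.prodMap indexHom.symm.toMonoidHom (MonoidHom.id _))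

theorem pairEmb_injective (k : ℕ) : Function.Injective (pairEmb k) := by
  unfold pairEmb
  simp only [MonoidHom.coe_comp]
  refine (finSumFinEquiv.permCongrHom.injective.comp Equiv.Perm.sumCongrHom_injective).comp ?_
  rintro ⟨a, b⟩ ⟨a', b'⟩ h
  simp only [MonoidHom.coe_prodMap, Prod.map_apply, MonoidHom.id_apply, Prod.mk.injEq] at h
  exact Prod.ext (indexHom.symm.injective h.1) h.2

theorem decodeP_pairCode {w k a b : ℕ} (hw : 24 + k ≤ 2 ^ w) (ha : okCode a = true)
    (hb : okPerm k 5 b = true) :
    decodeP (24 + k) w (pairCode w k a b) = pairEmb k (gperm a, decodeP k 5 b) := by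
  have hget : ∀ x : Fin (24 + k), getW w (pairCode w k a b) x =
      (pairEmb k (gperm a, decodeP k 5 b) x : ℕ) := by
    intro x
    rw [pairCode, getW_packW ?_ x.2]
    · induction x using Fin.addCases with
      | left i =>
        have e : pairEmb k (gperm a, decodeP k 5 b) (Fin.castAdd k i) =
            Fin.castAdd k (decodeP 24 5 a i) := by
          simp [pairEmb, gperm, Equiv.permCongrHom, Equiv.permCongr_apply]
        have hlt : Nat.blt (Fin.castAdd k i : ℕ) 24 = true := by simp [Nat.blt_eq]
        rw [e, hlt, cond_true, Fin.val_castAdd, Fin.val_castAdd, decodeP_apply ha]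
      | right i =>
        have e : pairEmb k (gperm a, decodeP k 5 b) (Fin.natAdd 24 i) =
            Fin.natAdd 24 (decodeP k 5 b i) := by
          simp [pairEmb, Equiv.permCongrHom, Equiv.permCongr_apply]
        have hlt : Nat.blt (Fin.natAdd 24 i : ℕ) 24 = false := by
          rw [← Bool.not_eq_true, Nat.blt_eq]; simp
        rw [e, hlt, cond_false, Fin.val_natAdd, Fin.val_natAdd, decodeP_apply hb,
          Nat.add_sub_cancel_left]
    · intro y hy
      by_cases h : y < 24
      · rw [show Nat.blt y 24 = true by rw [Nat.blt_eq]; exact h, cond_true]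
        have := okPerm_lt ha h
        omega
      · rw [show Nat.blt y 24 = false by rw [← Bool.not_eq_true, Nat.blt_eq]; exact h, cond_false]
        have := okPerm_lt hb (show y - 24 < k by omega)
        omega
  exact Equiv.ext fun x => Fin.ext (by rw [decodeP_apply (okPerm_of_getW _ hget), hget])

/-- The generators and their images give a homomorphism, surjective on the group of the images. -/
theorem exists_hom {w k : ℕ} (hw : 24 + k ≤ 2 ^ w) (l : List (ℕ × ℕ))
    (hok : (l.all fun ab => okCode ab.1 && okPerm k 5 ab.2) = true) {N : ℕ}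
    {steps : List (Computation.Step ℕ)} {c : List (Level ℕ)} {gens : List ℕ}
    (hgens : l.map (fun ab => pairCode w k ab.1 ab.2) = gens)
    (h : (permRep (24 + k) w hw).checkClosure gens steps c = true)
    (ho : (permRep (24 + k) w hw).order c = N) (hA : Nat.card (gsub (l.map Prod.fst)) = N) :
    ∃ f : gsub (l.map Prod.fst) →* Equiv.Perm (Fin k),
      f.range = Subgroup.closure (decodeP k 5 '' {s | s ∈ l.map Prod.snd}) := by
  classical
  simp only [List.all_eq_true, Bool.and_eq_true] at hok
  let pr : ℕ × ℕ → Equiv.Perm GolayPt × Equiv.Perm (Fin k) :=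
    fun ab => (gperm ab.1, decodeP k 5 ab.2)
  let S := pr '' {ab | ab ∈ l}
  let C := Subgroup.closure S
  have himg : pairEmb k '' S = decodeP (24 + k) w '' {s | s ∈ gens} := by
    subst hgens
    ext σ
    simp only [S, pr, Set.image_image, Set.mem_image, Set.mem_ofPred_eq, List.mem_map]
    constructor
    · rintro ⟨ab, hab, rfl⟩
      exact ⟨_, ⟨ab, hab, rfl⟩, decodeP_pairCode hw (hok ab hab).1 (hok ab hab).2⟩
    · rintro ⟨s, ⟨ab, hab, rfl⟩, rfl⟩
      exact ⟨ab, hab, (decodeP_pairCode hw (hok ab hab).1 (hok ab hab).2).symm⟩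
  have hC : Nat.card C = N := by
    rw [Nat.card_congr (C.equivMapOfInjective (pairEmb k) (pairEmb_injective k)).toEquiv,
      MonoidHom.map_closure, himg,
      ← ho]
    exact (permRep (24 + k) w hw).card_closure h
  have hfst : C.map (MonoidHom.fst _ _) = gsub (l.map Prod.fst) := by
    rw [MonoidHom.map_closure, gsub, Set.image_image]
    congr 1
    ext σ
    simp [pr]
  have hsnd : C.map (MonoidHom.snd _ _) =
      Subgroup.closure (decodeP k 5 '' {s | s ∈ l.map Prod.snd}) := by
    rw [MonoidHom.map_closure, Set.image_image]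
    congr 1
    ext σ
    simp only [pr, Set.mem_image, Set.mem_ofPred_eq, List.mem_map, MonoidHom.coe_snd]
    constructor
    · rintro ⟨ab, hab, rfl⟩
      exact ⟨_, ⟨ab, hab, rfl⟩, rfl⟩
    · rintro ⟨b, ⟨ab, hab, rfl⟩, rfl⟩
      exact ⟨ab, hab, rfl⟩
  let p : C →* gsub (l.map Prod.fst) :=
    ((MonoidHom.fst _ _).comp C.subtype).codRestrict _
      (fun x => hfst ▸ Subgroup.mem_map_of_mem _ x.2)
  have hp : Function.Surjective p := by
    rintro ⟨y, hy⟩
    rw [← hfst] at hy
    obtain ⟨x, hx, rfl⟩ := hy
    exact ⟨⟨x, hx⟩, rfl⟩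
  haveI : Finite C := Nat.finite_of_card_ne_zero (by
    rw [hC, ← hA]; exact Nat.card_pos.ne')
  have hpb : Function.Bijective p :=
    (Nat.bijective_iff_surjective_and_card p).2 ⟨hp, by rw [hC, hA]⟩
  let e := MulEquiv.ofBijective p hpb
  refine ⟨((MonoidHom.snd _ _).comp C.subtype).comp e.symm.toMonoidHom, ?_⟩
  rw [← hsnd, MonoidHom.range_comp, MonoidHom.range_eq_top.2 e.symm.surjective,
    ← MonoidHom.range_eq_map, MonoidHom.range_comp, Subgroup.range_subtype]

end Cfsg.Agent.Lib.M24Config
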