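import Cfsg.Agent.Lib.M24Config.Move
import Cfsg.Agent.Lib.M24Config.Graph
import Cfsg.Agent.Lib.M24Config.DataD

/-!
# Configurations at a dodecad

Normal forms for a dodecad with up to three points inside, or one inside and up to two outside, and
upper bounds for the orders of their stabilisers.
-/

set_option autoImplicit false

namespace Cfsg.Agent.Lib.M24Config.Dodecad

open Cfsg Cfsg.Agent.Lib.Golay Cfsg.Agent.Lib.SporStruct.Masks
open Cfsg.Agent.Lib.M24Config.DataD
open scoped Pointwise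

def qIn (m : ℕ) : Bool := !Nat.beq (m &&& dod0) 0
def qIn2 (m : ℕ) : Bool := qIn m && !Nat.beq m (2 ^ pD)
def qIn3 (m : ℕ) : Bool := qIn m && !Nat.beq m (2 ^ pD) && !Nat.beq m (2 ^ qD)
def qOut (m : ℕ) : Bool := Nat.beq (m &&& dod0) 0
def qOut2 (m : ℕ) : Bool := qOut m && !Nat.beq m (2 ^ xD)

theorem dod0_mem : dod0 ∈ masksOfWeight 12 := by
  rw [mem_masksOfWeight]; decide +kernel

theorem base_dodecad : setOfMask dod0 ∈ dodecads := setOfMask_mem_weight dod0_mem

theorem stepDods_ok : stepDods.ok (masksOfWeight 12) = true := by decide +kernel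
theorem stepIn_ok : stepIn.ok ((ksub 24 1).filter qIn) = true := by decide +kernel
theorem stepIn2_ok : stepIn2.ok ((ksub 24 1).filter qIn2) = true := by decide +kernel
theorem stepIn3_ok : stepIn3.ok ((ksub 24 1).filter qIn3) = true := by decide +kernel
theorem stepOut_ok : stepOut.ok ((ksub 24 1).filter qOut) = true := by decide +kernel
theorem stepOut2_ok : stepOut2.ok ((ksub 24 1).filter qOut2) = true := by decide +kernel

theorem qIn_single {p : GolayPt} (hp : p ∈ setOfMask dod0) : qIn (2 ^ idx p) = true := by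
  simp only [qIn, Bool.not_eq_true', ← Bool.not_eq_true, Nat.beq_eq]
  intro h
  have := congrArg (fun m => m.testBit (idx p)) h
  simp [Nat.testBit_and, mem_setOfMask.1 hp] at this

theorem qOut_single {p : GolayPt} (hp : p ∉ setOfMask dod0) : qOut (2 ^ idx p) = true := by
  simp only [qOut, Nat.beq_eq]
  apply Nat.eq_of_testBit_eq
  intro j
  rw [Nat.testBit_and, Nat.testBit_two_pow, Nat.zero_testBit]
  by_cases hj : idx p = j
  · subst hj
    rw [mem_setOfMask, Bool.not_eq_true] at hp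
    simp [hp]
  · simp [hj]

theorem pow_beq_false {p : GolayPt} {i : ℕ} (h : p ≠ pt i) : (!Nat.beq (2 ^ idx p) (2 ^ i)) = true := by
  simp only [Bool.not_eq_true', ← Bool.not_eq_true, Nat.beq_eq]
  intro e
  exact h (by rw [← Nat.pow_right_injective le_rfl e, pt_idx])

theorem norm_dodecad {d : Finset GolayPt} (hd : d ∈ dodecads) :
    ∃ g ∈ M24, g • d = setOfMask dod0 := by
  obtain ⟨g, hg, he⟩ := Step.transitive_sets stepDods_ok (maskOfSet_mem_weight hd) dod0_mem
  exact ⟨g, fixes_le_M24 _ hg, he⟩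

/-- A dodecad and a point in it. -/
theorem norm_one {d : Finset GolayPt} (hd : d ∈ dodecads) {p : GolayPt} (hp : p ∈ d) :
    ∃ g ∈ M24, g • d = setOfMask dod0 ∧ g p = pt pD := by
  obtain ⟨g, hg, he⟩ := norm_dodecad hd
  have hp' : g p ∈ setOfMask dod0 := he ▸ (mem_smul_iff' g d p).2 hp
  obtain ⟨h, hh, hhp⟩ := Step.move_point stepIn_ok (i := pD) (by decide) (qIn_single hp')
    (by decide +kernel)
  refine ⟨h * g, Subgroup.mul_mem _ (fixes_le_M24 _ hh) hg, ?_, hhp⟩
  rw [mul_smul, he]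
  exact hh.2 dod0 (by simp [stepIn, dod0])

/-- A dodecad and two points in it. -/
theorem norm_two {d : Finset GolayPt} (hd : d ∈ dodecads) {p q : GolayPt} (hp : p ∈ d) (hq : q ∈ d)
    (hpq : p ≠ q) : ∃ g ∈ M24, g • d = setOfMask dod0 ∧ g p = pt pD ∧ g q = pt qD := by
  obtain ⟨g, hg, he, hgp⟩ := norm_one hd hp
  have hq' : g q ∈ setOfMask dod0 := he ▸ (mem_smul_iff' g d q).2 hq
  have hne : g q ≠ pt pD := hgp ▸ g.injective.ne hpq.symm
  obtain ⟨h, hh, hhq⟩ := Step.move_point stepIn2_ok (p := g q) (i := qD) (by decide)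
    (by simp only [qIn2, qIn_single hq', pow_beq_false hne, Bool.and_self]) (by decide +kernel)
  refine ⟨h * g, Subgroup.mul_mem _ (fixes_le_M24 _ hh) hg, ?_, ?_, hhq⟩
  · rw [mul_smul, he]
    exact hh.2 dod0 (by simp [stepIn2, dod0])
  · rw [Equiv.Perm.mul_apply, hgp]
    exact fixes_point hh (by decide) (by simp [stepIn2, pD])

/-- A dodecad and three points in it. -/
theorem norm_three {d : Finset GolayPt} (hd : d ∈ dodecads) {p q r : GolayPt} (hp : p ∈ d)
    (hq : q ∈ d) (hr : r ∈ d) (hpq : p ≠ q) (hpr : p ≠ r) (hqr : q ≠ r) :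
    ∃ g ∈ M24, g • d = setOfMask dod0 ∧ g p = pt pD ∧ g q = pt qD ∧ g r = pt rD := by
  obtain ⟨g, hg, he, hgp, hgq⟩ := norm_two hd hp hq hpq
  have hr' : g r ∈ setOfMask dod0 := he ▸ (mem_smul_iff' g d r).2 hr
  have hne : g r ≠ pt pD := hgp ▸ g.injective.ne hpr.symm
  have hne' : g r ≠ pt qD := hgq ▸ g.injective.ne hqr.symm
  obtain ⟨h, hh, hhr⟩ := Step.move_point stepIn3_ok (p := g r) (i := rD) (by decide)
    (by simp only [qIn3, qIn_single hr', pow_beq_false hne, pow_beq_false hne', Bool.and_self])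
    (by decide +kernel)
  refine ⟨h * g, Subgroup.mul_mem _ (fixes_le_M24 _ hh) hg, ?_, ?_, ?_, hhr⟩
  · rw [mul_smul, he]
    exact hh.2 dod0 (by simp [stepIn3, dod0])
  · rw [Equiv.Perm.mul_apply, hgp]
    exact fixes_point hh (by decide) (by simp [stepIn3, pD])
  · rw [Equiv.Perm.mul_apply, hgq]
    exact fixes_point hh (by decide) (by simp [stepIn3, qD])

/-- A dodecad, a point in it and a point outside it. -/
theorem norm_mixed {d : Finset GolayPt} (hd : d ∈ dodecads) {p x : GolayPt} (hp : p ∈ d)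
    (hx : x ∉ d) : ∃ g ∈ M24, g • d = setOfMask dod0 ∧ g p = pt pD ∧ g x = pt xD := by
  obtain ⟨g, hg, he, hgp⟩ := norm_one hd hp
  have hx' : g x ∉ setOfMask dod0 := he ▸ fun h => hx ((mem_smul_iff' g d x).1 h)
  obtain ⟨h, hh, hhx⟩ := Step.move_point stepOut_ok (i := xD) (by decide) (qOut_single hx')
    (by decide +kernel)
  refine ⟨h * g, Subgroup.mul_mem _ (fixes_le_M24 _ hh) hg, ?_, ?_, hhx⟩
  · rw [mul_smul, he]
    exact hh.2 dod0 (by simp [stepOut, dod0])
  · rw [Equiv.Perm.mul_apply, hgp]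
    exact fixes_point hh (by decide) (by simp [stepOut, pD])

/-- A dodecad, a point in it and two points outside it. -/
theorem norm_mixed_two {d : Finset GolayPt} (hd : d ∈ dodecads) {p x y : GolayPt} (hp : p ∈ d)
    (hx : x ∉ d) (hy : y ∉ d) (hxy : x ≠ y) :
    ∃ g ∈ M24, g • d = setOfMask dod0 ∧ g p = pt pD ∧ g x = pt xD ∧ g y = pt yD := by
  obtain ⟨g, hg, he, hgp, hgx⟩ := norm_mixed hd hp hx
  have hy' : g y ∉ setOfMask dod0 := he ▸ fun h => hy ((mem_smul_iff' g d y).1 h)
  have hne : g y ≠ pt xD := hgx ▸ g.injective.ne hxy.symm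
  obtain ⟨h, hh, hhy⟩ := Step.move_point stepOut2_ok (p := g y) (i := yD) (by decide)
    (by simp only [qOut2, qOut_single hy', pow_beq_false hne, Bool.and_self]) (by decide +kernel)
  refine ⟨h * g, Subgroup.mul_mem _ (fixes_le_M24 _ hh) hg, ?_, ?_, ?_, hhy⟩
  · rw [mul_smul, he]
    exact hh.2 dod0 (by simp [stepOut2, dod0])
  · rw [Equiv.Perm.mul_apply, hgp]
    exact fixes_point hh (by decide) (by simp [stepOut2, pD])
  · rw [Equiv.Perm.mul_apply, hgx]
    exact fixes_point hh (by decide) (by simp [stepOut2, xD])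

theorem nodup_ksub_one : (ksub 24 1).Nodup := by decide +kernel

theorem ksub_one_lt : ∀ m ∈ ksub 24 1, m < 2 ^ 24 := by decide +kernel

theorem card_le_point {S : M24Config.Step} {q : ℕ → Bool} {N i : ℕ} (h : S.ok ((ksub 24 1).filter q) = true)
    (hb : 2 ^ i ∈ (ksub 24 1).filter q) (hN : Nat.card (Fixes S.ms) ≤ N) :
    Nat.card (Fixes (2 ^ i :: S.ms)) * S.n ≤ N :=
  (Step.card_fixes_le h (nodup_ksub_one.filter _)
    (fun m hm => ksub_one_lt m (List.mem_filter.1 hm).1) hb).trans hN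

theorem card_le_dod : Nat.card (Fixes [dod0]) ≤ 95040 := by
  have hnd : (masksOfWeight 12).Nodup := by
    refine List.Nodup.filter _ (List.Nodup.map_on ?_ List.nodup_range)
    intro a ha b hb he
    rw [← enc_mod (List.mem_range.mp ha), he, enc_mod (List.mem_range.mp hb)]
  have hlt : ∀ m ∈ masksOfWeight 12, m < 2 ^ 24 := by
    intro m hm
    obtain ⟨k, hk, rfl⟩ := inCode_iff.1 (mem_masksOfWeight.1 hm).1
    exact enc_lt hk
  have key : ∀ a b n N : ℕ, a * n ≤ b → b = N → n = 2576 → N = 244823040 → a ≤ 95040 := by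
    intro a b n N h hb hn hN
    subst hb hn hN
    omega
  exact key _ _ _ _ (Step.card_fixes_le stepDods_ok hnd hlt dod0_mem) card_fixes_nil rfl rfl

theorem card_le_one : Nat.card (Fixes [2 ^ pD, dod0]) ≤ 7920 := by
  have h := card_le_point (i := pD) stepIn_ok (by decide +kernel) card_le_dod
  change Nat.card (Fixes [2 ^ pD, dod0]) * 12 ≤ 95040 at h
  omega

theorem card_le_two : Nat.card (Fixes [2 ^ qD, 2 ^ pD, dod0]) ≤ 720 := by
  have h := card_le_point (i := qD) stepIn2_ok (by decide +kernel) card_le_one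
  change Nat.card (Fixes [2 ^ qD, 2 ^ pD, dod0]) * 11 ≤ 7920 at h
  omega

theorem card_le_three : Nat.card (Fixes [2 ^ rD, 2 ^ qD, 2 ^ pD, dod0]) ≤ 72 := by
  have h := card_le_point (i := rD) stepIn3_ok (by decide +kernel) card_le_two
  change Nat.card (Fixes [2 ^ rD, 2 ^ qD, 2 ^ pD, dod0]) * 10 ≤ 720 at h
  omega

theorem card_le_mixed : Nat.card (Fixes [2 ^ xD, 2 ^ pD, dod0]) ≤ 660 := by
  have h := card_le_point (i := xD) stepOut_ok (by decide +kernel) card_le_one
  change Nat.card (Fixes [2 ^ xD, 2 ^ pD, dod0]) * 12 ≤ 7920 at h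
  omega

theorem card_le_mixed_two : Nat.card (Fixes [2 ^ yD, 2 ^ xD, 2 ^ pD, dod0]) ≤ 60 := by
  have h := card_le_point (i := yD) stepOut2_ok (by decide +kernel) card_le_mixed
  change Nat.card (Fixes [2 ^ yD, 2 ^ xD, 2 ^ pD, dod0]) * 11 ≤ 660 at h
  omega

end Cfsg.Agent.Lib.M24Config.Dodecad
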