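import Cfsg.Agent.Lib.M24Config.Basic

/-! Moving points and words by the stabiliser of a configuration. -/

set_option autoImplicit false

namespace Cfsg.Agent.Lib.M24Config

open Cfsg Cfsg.Agent.Lib.Golay Cfsg.Agent.Lib.SporStruct.Masks
open scoped Pointwise

theorem setOfMask_two_pow {i : ℕ} (hi : i < 24) : setOfMask (2 ^ i) = {pt i} := by
  rw [← setOfMask_single, idx_pt hi]

theorem fixes_point {ms : List ℕ} {g : Equiv.Perm GolayPt} (hg : g ∈ Fixes ms) {i : ℕ}
    (hi : i < 24) (hm : 2 ^ i ∈ ms) : g (pt i) = pt i := by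
  have h := hg.2 _ hm
  rwa [setOfMask_two_pow hi, smul_single_iff] at h

theorem mask_single_mem {p : GolayPt} {q : ℕ → Bool} (hq : q (2 ^ idx p) = true) :
    maskOfSet ({p} : Finset GolayPt) ∈ (ksub 24 1).filter q :=
  List.mem_filter.2 ⟨maskOfSet_mem_ksub (Finset.card_singleton p), by rw [maskOfSet_single]; exact hq⟩

namespace Step

/-- Moving a point. -/
theorem move_point {S : Step} {q : ℕ → Bool} (h : S.ok ((ksub 24 1).filter q) = true) {p : GolayPt}
    {i : ℕ} (hi : i < 24) (hp : q (2 ^ idx p) = true) (hq : q (2 ^ i) = true) :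
    ∃ g ∈ Fixes S.ms, g p = pt i := by
  have hb : 2 ^ i ∈ (ksub 24 1).filter q := by
    have := mask_single_mem (p := pt i) (q := q) (by rwa [idx_pt hi])
    rwa [maskOfSet_single, idx_pt hi] at this
  obtain ⟨g, hg, he⟩ := transitive_sets h (mask_single_mem hp) hb
  rw [setOfMask_two_pow hi, smul_single_iff] at he
  exact ⟨g, hg, he⟩

end Step

/-- Number of code words of weight `n` with a property given on masks. -/
theorem ncard_weight {n : ℕ} {Q : Finset GolayPt → Prop} {q : ℕ → Bool}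
    (h : ∀ m ∈ masksOfWeight n, Q (setOfMask m) ↔ q m = true) :
    {s | s ∈ wordsOfWeight (golayCode : Set (GolayPt → ZMod 2)) n ∧ Q s}.ncard =
      ((masksOfWeight n).filter q).length := by
  have hlt : ∀ m ∈ masksOfWeight n, m < 2 ^ 24 := by
    intro m hm
    obtain ⟨k, hk, rfl⟩ := inCode_iff.1 (mem_masksOfWeight.1 hm).1
    exact enc_lt hk
  refine ncard_sets ?_ (fun m hm => hlt m (List.mem_filter.1 hm).1) ?_ ?_
  · refine List.Nodup.filter _ ?_
    refine List.Nodup.filter _ (List.Nodup.map_on ?_ List.nodup_range)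
    intro a ha b hb he
    rw [← enc_mod (List.mem_range.mp ha), he, enc_mod (List.mem_range.mp hb)]
  · rintro s ⟨hs, hQ⟩
    refine List.mem_filter.2 ⟨maskOfSet_mem_weight hs, ?_⟩
    rw [← h _ (maskOfSet_mem_weight hs), setOfMask_maskOfSet]
    exact hQ
  · intro m hm
    obtain ⟨hm, hq⟩ := List.mem_filter.1 hm
    exact ⟨setOfMask_mem_weight hm, (h m hm).2 hq⟩

/-- A code word of weight `n` with the property is a target. -/
theorem mask_weight_mem {n : ℕ} {Q : Finset GolayPt → Prop} {q : ℕ → Bool}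
    (h : ∀ m ∈ masksOfWeight n, Q (setOfMask m) ↔ q m = true) {s : Finset GolayPt}
    (hs : s ∈ wordsOfWeight (golayCode : Set (GolayPt → ZMod 2)) n) (hQ : Q s) :
    maskOfSet s ∈ (masksOfWeight n).filter q :=
  List.mem_filter.2 ⟨maskOfSet_mem_weight hs, by
    rw [← h _ (maskOfSet_mem_weight hs), setOfMask_maskOfSet]; exact hQ⟩

/-- Counting is invariant under a change of configuration. -/
theorem ncard_comp_smul (g : Equiv.Perm GolayPt) (P : Finset GolayPt → Prop) :
    {s | P (g • s)}.ncard = {s | P s}.ncard := by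
  refine Set.ncard_congr (fun s _ => g • s) (fun s hs => hs)
    (fun a b _ _ h => smul_left_cancel g h) (fun s hs => ⟨g⁻¹ • s, ?_, smul_inv_smul g s⟩)
  simpa using hs

theorem smul_mem_octads_iff {g : Equiv.Perm GolayPt} (hg : g ∈ M24) {s : Finset GolayPt} :
    g • s ∈ octads ↔ s ∈ octads :=
  ⟨fun h => by simpa using smul_mem_octads (Subgroup.inv_mem _ hg) h, smul_mem_octads hg⟩

theorem smul_mem_dodecads_iff {g : Equiv.Perm GolayPt} (hg : g ∈ M24) {s : Finset GolayPt} :
    g • s ∈ dodecads ↔ s ∈ dodecads :=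
  ⟨fun h => by simpa using smul_mem_dodecads (Subgroup.inv_mem _ hg) h, smul_mem_dodecads hg⟩

end Cfsg.Agent.Lib.M24Config

namespace Cfsg.Agent.Lib.M24Config

open Cfsg Cfsg.Agent.Lib.Golay Cfsg.Agent.Lib.SporStruct.Masks

/-- An intersection number read off the masks. -/
theorem card_inter_eq' {m k : ℕ} {s : Finset GolayPt} (h : (setOfMask m ∩ s).card = k) :
    k = pc24 (m &&& maskOfSet s) := by
  rw [← h, ← card_setOfMask, setOfMask_and, setOfMask_maskOfSet]

end Cfsg.Agent.Lib.M24Config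

namespace Cfsg.Agent.Lib.M24Config

open Cfsg Cfsg.Agent.Lib.Golay Cfsg.Agent.Lib.SporStruct.Masks
open scoped Pointwise

/-- Two targets are exchanged inside the stabiliser. -/
theorem Step.transitive_sets₂ {S : Step} {l : List ℕ} (h : S.ok l = true) {s t : Finset GolayPt}
    (hs : maskOfSet s ∈ l) (ht : maskOfSet t ∈ l) : ∃ f ∈ Fixes S.ms, f • s = t := by
  obtain ⟨f, hf, he⟩ := Step.transitive h hs ht
  rw [setOfMask_maskOfSet, setOfMask_maskOfSet] at he
  exact ⟨f, hf, he⟩

/-- Moving a pointwise fixed point back. -/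
theorem conj_point {g f : Equiv.Perm GolayPt} {p P : GolayPt} (hgp : g p = P) (hfP : f P = P) :
    (g⁻¹ * f * g) p = p := by
  simp only [Equiv.Perm.mul_apply, hgp, hfP, Equiv.Perm.inv_eq_iff_eq]

/-- Moving a fixed set back. -/
theorem conj_set {g f : Equiv.Perm GolayPt} {s t : Finset GolayPt} (h : f • (g • s) = g • t) :
    (g⁻¹ * f * g) • s = t := by
  rw [mul_smul, mul_smul, h, inv_smul_smul]

theorem conj_mem {g f : Equiv.Perm GolayPt} {ms : List ℕ} (hg : g ∈ M24) (hf : f ∈ Fixes ms) :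
    g⁻¹ * f * g ∈ M24 :=
  Subgroup.mul_mem _ (Subgroup.mul_mem _ (Subgroup.inv_mem _ hg) (fixes_le_M24 _ hf)) hg

end Cfsg.Agent.Lib.M24Config

namespace Cfsg.Agent.Lib.M24Config

open Cfsg Cfsg.Agent.Lib.Golay Cfsg.Agent.Lib.SporStruct.Masks
open scoped Pointwise

theorem conj_fix_iff (g x : Equiv.Perm GolayPt) (s : Finset GolayPt) :
    (g * x * g⁻¹) • (g • s) = g • s ↔ x • s = s := by
  rw [mul_smul, mul_smul, inv_smul_smul, smul_left_cancel_iff]

theorem conj_fix_point_iff {g : Equiv.Perm GolayPt} {p : GolayPt} {i : ℕ} (hi : i < 24)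
    (hgp : g p = pt i) (x : Equiv.Perm GolayPt) :
    (g * x * g⁻¹) • setOfMask (2 ^ i) = setOfMask (2 ^ i) ↔ x p = p := by
  rw [setOfMask_two_pow hi, ← hgp, ← smul_single_iff (g := x) (p := p) (q := p),
    show ({g p} : Finset GolayPt) = g • ({p} : Finset GolayPt) from
      (smul_single_iff.2 rfl).symm, conj_fix_iff]

/-- A stabiliser inside the code's group, moved to the base configuration. -/
theorem exists_equiv_fixes {H : Subgroup ↥M24} {g : Equiv.Perm GolayPt} (hg : g ∈ M24) {ms : List ℕ}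
    (h : ∀ x : ↥M24, x ∈ H ↔
      ∀ m ∈ ms, (g * (x : Equiv.Perm GolayPt) * g⁻¹) • setOfMask m = setOfMask m) :
    ∃ e : ↥H ≃* ↥(Fixes ms), ∀ x, (e x : Equiv.Perm GolayPt) = g * (x.1 : Equiv.Perm GolayPt) * g⁻¹ := by
  let f : ↥H →* Equiv.Perm GolayPt :=
    (MulAut.conj g).toMonoidHom.comp (M24.subtype.comp H.subtype)
  have hf : Function.Injective f :=
    (MulAut.conj g).injective.comp (Subtype.coe_injective.comp Subtype.coe_injective)
  have hr : f.range = Fixes ms := by
    ext y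
    constructor
    · rintro ⟨x, rfl⟩
      exact ⟨Subgroup.mul_mem _ (Subgroup.mul_mem _ hg x.1.2) (Subgroup.inv_mem _ hg), (h x.1).1 x.2⟩
    · intro hy
      refine ⟨⟨⟨g⁻¹ * y * g,
        Subgroup.mul_mem _ (Subgroup.mul_mem _ (Subgroup.inv_mem _ hg) hy.1) hg⟩, ?_⟩, ?_⟩
      · rw [h]
        intro m hm
        have : g * (g⁻¹ * y * g) * g⁻¹ = y := by group
        rw [this]
        exact hy.2 m hm
      · show g * (g⁻¹ * y * g) * g⁻¹ = y
        group
  exact ⟨(MonoidHom.ofInjective hf).trans (MulEquiv.subgroupCongr hr), fun x => rfl⟩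

end Cfsg.Agent.Lib.M24Config
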