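import Cfsg.Agent.Lib.M24Config.Move
import Cfsg.Agent.Lib.M24Config.DataA

/-!
# Configurations at an octad

Normal forms for an octad with points inside or outside it, and the orbits of their stabilisers on
octads.
-/

set_option autoImplicit false

namespace Cfsg.Agent.Lib.M24Config.Octad

open Cfsg Cfsg.Agent.Lib.Golay Cfsg.Agent.Lib.SporStruct.Masks
open Cfsg.Agent.Lib.M24Config.DataA
open scoped Pointwise

def qIn (m : ℕ) : Bool := !Nat.beq (m &&& oct0) 0
def qIn2 (m : ℕ) : Bool := qIn m && !Nat.beq m (2 ^ pA)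
def qOut (m : ℕ) : Bool := Nat.beq (m &&& oct0) 0

theorem oct0_mem : oct0 ∈ masksOfWeight 8 := by
  rw [mem_masksOfWeight]; decide +kernel

theorem oct0_lt : oct0 < 2 ^ 24 := by decide +kernel

theorem base_octad : setOfMask oct0 ∈ octads := setOfMask_mem_weight oct0_mem

theorem stepOctads_ok : stepOctads.ok (masksOfWeight 8) = true := by decide +kernel
theorem stepInside_ok : stepInside.ok ((ksub 24 1).filter qIn) = true := by decide +kernel
theorem stepInside2_ok : stepInside2.ok ((ksub 24 1).filter qIn2) = true := by decide +kernel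
theorem stepOutside_ok : stepOutside.ok ((ksub 24 1).filter qOut) = true := by decide +kernel
theorem stepOutside2_ok : stepOutside2.ok ((ksub 24 1).filter qOut) = true := by decide +kernel

theorem qIn_single {p : GolayPt} (hp : p ∈ setOfMask oct0) : qIn (2 ^ idx p) = true := by
  simp only [qIn, Bool.not_eq_true', ← Bool.not_eq_true, Nat.beq_eq]
  intro h
  have := congrArg (fun m => m.testBit (idx p)) h
  simp [Nat.testBit_and, Nat.testBit_two_pow, mem_setOfMask.1 hp] at this

theorem qOut_single {p : GolayPt} (hp : p ∉ setOfMask oct0) : qOut (2 ^ idx p) = true := by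
  simp only [qOut, Nat.beq_eq]
  apply Nat.eq_of_testBit_eq
  intro j
  rw [Nat.testBit_and, Nat.testBit_two_pow, Nat.zero_testBit]
  by_cases hj : idx p = j
  · subst hj
    rw [mem_setOfMask, Bool.not_eq_true] at hp
    simp [hp]
  · simp [hj]

theorem idx_ne {p : GolayPt} {i : ℕ} (h : p ≠ pt i) : idx p ≠ i := fun e => h (by rw [← e, pt_idx])

theorem qIn2_single {p : GolayPt} (hp : p ∈ setOfMask oct0) (hne : p ≠ pt pA) :
    qIn2 (2 ^ idx p) = true := by
  simp only [qIn2, qIn_single hp, Bool.true_and, Bool.not_eq_true', ← Bool.not_eq_true, Nat.beq_eq]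
  exact fun h => idx_ne hne (Nat.pow_right_injective le_rfl h)

theorem norm_octad {o : Finset GolayPt} (ho : o ∈ octads) :
    ∃ g ∈ M24, g • o = setOfMask oct0 := by
  obtain ⟨g, hg, he⟩ := Step.transitive_sets stepOctads_ok (maskOfSet_mem_weight ho) oct0_mem
  exact ⟨g, fixes_le_M24 _ hg, he⟩

/-- An octad and a point in it. -/
theorem norm_inside {o : Finset GolayPt} (ho : o ∈ octads) {p : GolayPt} (hp : p ∈ o) :
    ∃ g ∈ M24, g • o = setOfMask oct0 ∧ g p = pt pA := by
  obtain ⟨g, hg, he⟩ := norm_octad ho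
  have hp' : g p ∈ setOfMask oct0 := he ▸ (mem_smul_iff' g o p).2 hp
  obtain ⟨h, hh, hhp⟩ := Step.move_point stepInside_ok (i := pA) (by decide) (qIn_single hp')
    (by decide +kernel)
  refine ⟨h * g, Subgroup.mul_mem _ (fixes_le_M24 _ hh) hg, ?_, hhp⟩
  rw [mul_smul, he]
  exact hh.2 oct0 (by simp [stepInside, oct0])

/-- An octad and two points in it. -/
theorem norm_pair {o : Finset GolayPt} (ho : o ∈ octads) {p q : GolayPt} (hp : p ∈ o) (hq : q ∈ o)
    (hpq : p ≠ q) : ∃ g ∈ M24, g • o = setOfMask oct0 ∧ g p = pt pA ∧ g q = pt qA := by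
  obtain ⟨g, hg, he, hgp⟩ := norm_inside ho hp
  have hq' : g q ∈ setOfMask oct0 := he ▸ (mem_smul_iff' g o q).2 hq
  have hne : g q ≠ pt pA := hgp ▸ g.injective.ne hpq.symm
  obtain ⟨h, hh, hhq⟩ := Step.move_point stepInside2_ok (i := qA) (by decide)
    (qIn2_single hq' hne) (by decide +kernel)
  refine ⟨h * g, Subgroup.mul_mem _ (fixes_le_M24 _ hh) hg, ?_, ?_, hhq⟩
  · rw [mul_smul, he]
    exact hh.2 oct0 (by simp [stepInside2, oct0])
  · rw [Equiv.Perm.mul_apply, hgp]
    exact fixes_point hh (by decide) (by simp [stepInside2, pA])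

/-- An octad and a point outside it. -/
theorem norm_outside {o : Finset GolayPt} (ho : o ∈ octads) {x : GolayPt} (hx : x ∉ o) :
    ∃ g ∈ M24, g • o = setOfMask oct0 ∧ g x = pt xA := by
  obtain ⟨g, hg, he⟩ := norm_octad ho
  have hx' : g x ∉ setOfMask oct0 := he ▸ fun h => hx ((mem_smul_iff' g o x).1 h)
  obtain ⟨h, hh, hhx⟩ := Step.move_point stepOutside_ok (i := xA) (by decide) (qOut_single hx')
    (by decide +kernel)
  refine ⟨h * g, Subgroup.mul_mem _ (fixes_le_M24 _ hh) hg, ?_, hhx⟩
  rw [mul_smul, he]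
  exact hh.2 oct0 (by simp [stepOutside, oct0])

/-- An octad, a point in it and a point outside it. -/
theorem norm_mixed {o : Finset GolayPt} (ho : o ∈ octads) {p x : GolayPt} (hp : p ∈ o) (hx : x ∉ o) :
    ∃ g ∈ M24, g • o = setOfMask oct0 ∧ g p = pt pA ∧ g x = pt xA := by
  obtain ⟨g, hg, he, hgp⟩ := norm_inside ho hp
  have hx' : g x ∉ setOfMask oct0 := he ▸ fun h => hx ((mem_smul_iff' g o x).1 h)
  obtain ⟨h, hh, hhx⟩ := Step.move_point stepOutside2_ok (i := xA) (by decide) (qOut_single hx')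
    (by decide +kernel)
  refine ⟨h * g, Subgroup.mul_mem _ (fixes_le_M24 _ hh) hg, ?_, ?_, hhx⟩
  · rw [mul_smul, he]
    exact hh.2 oct0 (by simp [stepOutside2, oct0])
  · rw [Equiv.Perm.mul_apply, hgp]
    exact fixes_point hh (by decide) (by simp [stepOutside2, pA])

end Cfsg.Agent.Lib.M24Config.Octad
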