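import Cfsg.Agent.Lib.M24Config.Octad

/-! The stabiliser of an octad and an outside point is transitive on the other outside points. -/

set_option autoImplicit false

namespace Cfsg.Agent.Lib.M24Config.OutsidePair

open Cfsg.Agent.Lib.M24Config.DataA Cfsg.Agent.Lib.M24Config.Octad Cfsg.Agent.Lib.Golay
open Cfsg.Agent.Lib.SporStruct.Masks
open scoped Pointwise

/-- transitivity certificate -/
def stepOutsidePair : Cfsg.Agent.Lib.M24Config.Step where
  ms := [2, 13062145]
  cs := [0x90114546cc2de7079c951256668c2e, 0x95ca81c6007daac14d6da1cca4902e]
  n := 15
  packed := 0x200000100000080000008000002000000800000400000200000100000080000040000020000010000008000004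
  tree := 0x100500d0000900b0100e0030000e00601004005010070090100a00e0000a00c0100200800002004010010070000100a0100000200000001

/-- the targets -/
def qOut2 (m : ℕ) : Bool := qOut m && !Nat.beq m (2 ^ xA)

theorem stepOutsidePair_ok : stepOutsidePair.ok ((ksub 24 1).filter qOut2) = true := by decide +kernel

end Cfsg.Agent.Lib.M24Config.OutsidePair
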