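import Cfsg.Prelude.Def_SporadicCombinatorics
import Cfsg.Agent.Lib.M24Config.Dodecad
import Cfsg.Agent.Lib.M24Config.DataQ

/-!
# Quartets of a dodecad

The 220 quartets of the base dodecad, their transitivity and the stabiliser of one of them.
-/

set_option autoImplicit false

namespace Cfsg.Agent.Lib.M24Config.Quartets

open Cfsg Cfsg.Agent.Lib.Golay Cfsg.Agent.Lib.SporStruct.Masks
open Cfsg.Agent.Lib.M24Config.DataD Cfsg.Agent.Lib.M24Config.DataQ
open Cfsg.Agent.Lib.M24Config.Dodecad
open Cfsg.Agent.Lib.Computation (getW)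
open scoped Pointwise

/-! ### equivariance -/

theorem smul_hexadsOn {g : Equiv.Perm GolayPt} (hg : g ∈ M24) {d h : Finset GolayPt}
    (hh : h ∈ hexadsOn d) : g • h ∈ hexadsOn (g • d) := by
  obtain ⟨h6, o, ho, he⟩ := hh
  refine ⟨by rw [Finset.card_smul_finset]; exact h6, g • o, smul_mem_octads hg ho, ?_⟩
  rw [← Finset.smul_finset_inter, he]

theorem smul_quartets {g : Equiv.Perm GolayPt} (hg : g ∈ M24) {d : Finset GolayPt}
    {Q : Finset (Finset GolayPt)} (hQ : Q ∈ quartets d) : g • Q ∈ quartets (g • d) := by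
  obtain ⟨h4, ht, hu⟩ := hQ
  refine ⟨by rw [Finset.card_smul_finset]; exact h4, ?_, ?_⟩
  · intro t htm
    obtain ⟨t', ht', rfl⟩ := Finset.mem_smul_finset.1 htm
    exact ⟨by rw [Finset.card_smul_finset]; exact (ht t' ht').1,
      Finset.smul_finset_subset_smul_finset (ht t' ht').2⟩
  · intro t htm u hum hne
    obtain ⟨t', ht', rfl⟩ := Finset.mem_smul_finset.1 htm
    obtain ⟨u', hu', rfl⟩ := Finset.mem_smul_finset.1 hum
    rw [← Finset.smul_finset_union]
    exact smul_hexadsOn hg (hu t' ht' u' hu' fun e => hne (by rw [e]))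

theorem smul_quartets_iff {g : Equiv.Perm GolayPt} (hg : g ∈ M24) {d : Finset GolayPt}
    {Q : Finset (Finset GolayPt)} : g • Q ∈ quartets (g • d) ↔ Q ∈ quartets d :=
  ⟨fun h => by simpa using smul_quartets (Subgroup.inv_mem _ hg) h, smul_quartets hg⟩

/-! ### coded quartets -/

/-- The four masks of a code. -/
def four (n : ℕ) : List ℕ := [getW 24 n 0, getW 24 n 1, getW 24 n 2, getW 24 n 3]

/-- The family coded by a number. -/
def decQ (n : ℕ) : Finset (Finset GolayPt) := (four n).toFinset.image setOfMask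

/-- A coded permutation maps one coded family onto another. -/
def edgeQ (c a b : ℕ) : Bool :=
  ((four a).all fun m => (four b).contains (permMask c m)) &&
    (four b).all fun m => (four a).any fun m' => Nat.beq (permMask c m') m

theorem edgeQ_spec {c a b : ℕ} (hc : okCode c = true) (h : edgeQ c a b = true) :
    gperm c • decQ a = decQ b := by
  simp only [edgeQ, Bool.and_eq_true, List.all_eq_true, List.any_eq_true, Nat.beq_eq,
    List.contains_iff_mem] at h
  ext s
  simp only [decQ, Finset.mem_smul_finset, Finset.mem_image, List.mem_toFinset]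
  constructor
  · rintro ⟨_, ⟨m, hm, rfl⟩, rfl⟩
    exact ⟨_, h.1 m hm, (smul_setOfMask hc m).symm⟩
  · rintro ⟨m, hm, rfl⟩
    obtain ⟨m', hm', rfl⟩ := h.2 m hm
    exact ⟨_, ⟨m', hm', rfl⟩, smul_setOfMask hc m'⟩

/-- The hexads on the base dodecad. -/
def hexList : List ℕ :=
  (((masksOfWeight 8).map fun o => o &&& dod0).filter fun h => Nat.beq (pc24 h) 6)

/-- The triples in the base dodecad. -/
def tripList : List ℕ := (ksub 24 3).filter fun t => Nat.beq (t &&& dod0) t

/-- Least element of a mask. -/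
def lowBit (r : ℕ) : ℕ := ((List.range 24).filter fun i => r.testBit i).headI

/-- Triples inside `r` through its least element. -/
def firstTrip (r : ℕ) : List ℕ :=
  tripList.filter fun t => Nat.beq (t &&& r) t && t.testBit (lowBit r)

/-- The code of four masks. -/
def code4 (a b c e : ℕ) : ℕ := a + b * 2 ^ 24 + c * 2 ^ 48 + e * 2 ^ 72

/-- All quartets of the base dodecad. -/
def qEnum : List ℕ :=
  (firstTrip dod0).flatMap fun a =>
    ((firstTrip (dod0 ^^^ a)).filter fun b => hexList.contains (a ||| b)).flatMap fun b =>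
      (((firstTrip (dod0 ^^^ a ^^^ b)).filter fun c =>
        hexList.contains (a ||| c) && hexList.contains (b ||| c)).filter fun c =>
          tripList.contains (dod0 ^^^ a ^^^ b ^^^ c) &&
            hexList.contains (a ||| (dod0 ^^^ a ^^^ b ^^^ c)) &&
            hexList.contains (b ||| (dod0 ^^^ a ^^^ b ^^^ c)) &&
            hexList.contains (c ||| (dod0 ^^^ a ^^^ b ^^^ c))).map fun c =>
        code4 a b c (dod0 ^^^ a ^^^ b ^^^ c)

/-- The `i`-th quartet. -/
def getQ (i : ℕ) : ℕ := getW 96 allPacked i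

theorem qEnum_eq : qEnum = (List.range 220).map getQ := by decide +kernel

theorem mask_lt_of_trip {t : ℕ} (h : t ∈ tripList) : t < 2 ^ 24 := by
  have key : ∀ t ∈ tripList, t < 2 ^ 24 := by decide +kernel
  exact key t h

theorem mem_hexList_iff (h : Finset GolayPt) :
    h ∈ hexadsOn (setOfMask dod0) ↔ maskOfSet h ∈ hexList := by
  simp only [hexadsOn, Set.mem_ofPred_eq, hexList, List.mem_filter, List.mem_map, Nat.beq_eq]
  constructor
  · rintro ⟨h6, o, ho, rfl⟩
    refine ⟨⟨maskOfSet o, maskOfSet_mem_weight ho, ?_⟩, by rw [← card_eq_pc24]; exact h6⟩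
    refine setOfMask_injOn (lt_of_le_of_lt Nat.and_le_left (maskOfSet_lt o)) (maskOfSet_lt _) ?_
    rw [setOfMask_and, setOfMask_maskOfSet, setOfMask_maskOfSet]
  · rintro ⟨⟨m, hm, he⟩, h6⟩
    refine ⟨by rw [card_eq_pc24]; exact h6, setOfMask m, setOfMask_mem_weight hm, ?_⟩
    rw [← setOfMask_and, he, setOfMask_maskOfSet]

theorem maskOfSet_sdiff {r t : Finset GolayPt} (h : t ⊆ r) :
    maskOfSet (r \ t) = maskOfSet r ^^^ maskOfSet t := by
  refine setOfMask_injOn (maskOfSet_lt _) (Nat.xor_lt_two_pow (maskOfSet_lt _) (maskOfSet_lt _)) ?_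
  ext p
  rw [setOfMask_maskOfSet, Finset.mem_sdiff, mem_setOfMask, Nat.testBit_xor]
  by_cases h1 : p ∈ r <;> by_cases h2 : p ∈ t
  · simp [h1, h2, testBit_maskOfSet_idx.2 h1, testBit_maskOfSet_idx.2 h2]
  · simp [h1, h2, testBit_maskOfSet_idx.2 h1,
      Bool.eq_false_iff.2 (fun e => h2 (testBit_maskOfSet_idx.1 e))]
  · exact absurd (h h2) h1
  · simp [h1, h2, Bool.eq_false_iff.2 (fun e => h1 (testBit_maskOfSet_idx.1 e)),
      Bool.eq_false_iff.2 (fun e => h2 (testBit_maskOfSet_idx.1 e))]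

theorem triple_mem {t : Finset GolayPt} (ht : t.card = 3 ∧ t ⊆ setOfMask dod0) :
    maskOfSet t ∈ tripList := by
  refine List.mem_filter.2 ⟨maskOfSet_mem_ksub ht.1, ?_⟩
  rw [Nat.beq_eq]
  refine setOfMask_injOn (lt_of_le_of_lt Nat.and_le_left (maskOfSet_lt t)) (maskOfSet_lt t) ?_
  rw [setOfMask_and, setOfMask_maskOfSet, Finset.inter_eq_left]
  exact ht.2

theorem pick {d : Finset GolayPt} (hd : d = setOfMask dod0) {U : Finset (Finset GolayPt)}
    (hU : ∀ t ∈ U, t.card = 3 ∧ t ⊆ d) (hdis : (U : Set (Finset GolayPt)).PairwiseDisjoint id)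
    (hne : U.Nonempty) :
    ∃ t ∈ U, maskOfSet t ∈ firstTrip (maskOfSet (U.biUnion id)) ∧
      (U.erase t).biUnion id = U.biUnion id \ t := by
  subst hd
  obtain ⟨t₀, ht₀⟩ := hne
  obtain ⟨p, hp⟩ : (U.biUnion id).Nonempty := by
    obtain ⟨p, hp⟩ := Finset.card_pos.1 (by rw [(hU t₀ ht₀).1]; norm_num : 0 < t₀.card)
    exact ⟨p, Finset.mem_biUnion.2 ⟨t₀, ht₀, hp⟩⟩
  set r := maskOfSet (U.biUnion id)
  have hl : lowBit r < 24 ∧ r.testBit (lowBit r) = true := by
    have hm : idx p ∈ (List.range 24).filter fun i => r.testBit i :=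
      List.mem_filter.2 ⟨List.mem_range.2 (idx_lt p), testBit_maskOfSet_idx.2 hp⟩
    obtain ⟨h, l, hhl⟩ := List.exists_cons_of_ne_nil (List.ne_nil_of_mem hm)
    have hin : lowBit r ∈ (List.range 24).filter fun i => r.testBit i := by
      rw [lowBit, hhl]; exact List.mem_cons_self
    have := List.mem_filter.1 hin
    exact ⟨List.mem_range.1 this.1, this.2⟩
  have hlow : pt (lowBit r) ∈ U.biUnion id := by
    rw [← testBit_maskOfSet_idx, idx_pt hl.1]; exact hl.2
  obtain ⟨t, ht, hpt⟩ := Finset.mem_biUnion.1 hlow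
  refine ⟨t, ht, List.mem_filter.2 ⟨triple_mem (hU t ht), ?_⟩, ?_⟩
  · rw [Bool.and_eq_true, Nat.beq_eq]
    refine ⟨?_, ?_⟩
    · refine setOfMask_injOn (lt_of_le_of_lt Nat.and_le_left (maskOfSet_lt t)) (maskOfSet_lt t) ?_
      rw [setOfMask_and, setOfMask_maskOfSet, setOfMask_maskOfSet, Finset.inter_eq_left]
      exact fun x hx => Finset.mem_biUnion.2 ⟨t, ht, hx⟩
    · have := testBit_maskOfSet_idx.2 hpt
      rwa [idx_pt hl.1] at this
  · ext x
    simp only [Finset.mem_biUnion, Finset.mem_erase, Finset.mem_sdiff, id]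
    constructor
    · rintro ⟨u, ⟨hne, hu⟩, hx⟩
      exact ⟨⟨u, hu, hx⟩, fun h => Finset.disjoint_left.1 (hdis hu ht hne) hx h⟩
    · rintro ⟨⟨u, hu, hx⟩, hxt⟩
      exact ⟨u, ⟨fun e => hxt (e ▸ hx), hu⟩, hx⟩

theorem quartet_mem_enum {Q : Finset (Finset GolayPt)} (hQ : Q ∈ quartets (setOfMask dod0)) :
    ∃ n ∈ qEnum, decQ n = Q := by
  obtain ⟨h4, ht, hu⟩ := hQ
  set d := setOfMask dod0 with hd
  have hdis : (Q : Set (Finset GolayPt)).PairwiseDisjoint id := by
    intro t htm u hum hne
    have h6 := (hu t htm u hum hne).1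
    show Disjoint t u
    rw [Finset.disjoint_iff_inter_eq_empty, ← Finset.card_eq_zero]
    have := Finset.card_union_add_card_inter t u
    have := (ht t htm).1
    have := (ht u hum).1
    omega
  have hcover : Q.biUnion id = d := by
    refine Finset.eq_of_subset_of_card_le (Finset.biUnion_subset.2 fun t h => (ht t h).2) ?_
    rw [Finset.card_biUnion hdis, Finset.sum_congr rfl fun t h => (show (id t).card = 3 from (ht t h).1),
      Finset.sum_const, h4, hd, card_setOfMask]
    decide +kernel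
  have hdm : maskOfSet d = dod0 := maskOfSet_setOfMask (by decide +kernel)
  have hQne : Q.Nonempty := Finset.card_pos.1 (by omega)
  obtain ⟨a, ha, haf, haU⟩ := pick hd ht hdis hQne
  rw [hcover, hdm] at haf
  rw [hcover] at haU
  have h3 : (Q.erase a).card = 3 := by rw [Finset.card_erase_of_mem ha, h4]
  obtain ⟨b, hb, hbf, hbU⟩ := pick hd (U := Q.erase a) (fun t h => ht t (Finset.mem_of_mem_erase h))
    (hdis.subset (by simp)) (Finset.card_pos.1 (by omega))
  rw [haU, maskOfSet_sdiff (ht a ha).2, hdm] at hbf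
  rw [haU] at hbU
  have h2 : ((Q.erase a).erase b).card = 2 := by rw [Finset.card_erase_of_mem hb, h3]
  have hsub2 : ∀ t ∈ (Q.erase a).erase b, t ∈ Q := fun t h =>
    Finset.mem_of_mem_erase (Finset.mem_of_mem_erase h)
  obtain ⟨c, hc, hcf, hcU⟩ := pick hd (U := (Q.erase a).erase b) (fun t h => ht t (hsub2 t h))
    (hdis.subset (fun t h => hsub2 t h)) (Finset.card_pos.1 (by omega))
  have hbsub : b ⊆ d \ a := by
    intro x hx
    rw [← haU]
    exact Finset.mem_biUnion.2 ⟨b, hb, hx⟩
  rw [hbU, maskOfSet_sdiff hbsub, maskOfSet_sdiff (ht a ha).2, hdm] at hcf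
  rw [hbU] at hcU
  obtain ⟨e, he⟩ := Finset.card_eq_one.1 (show (((Q.erase a).erase b).erase c).card = 1 by
    rw [Finset.card_erase_of_mem hc, h2])
  rw [he, Finset.singleton_biUnion] at hcU
  have hcsub : c ⊆ (d \ a) \ b := by
    intro x hx
    rw [← hbU]
    exact Finset.mem_biUnion.2 ⟨c, hc, hx⟩
  have hem : maskOfSet e = dod0 ^^^ maskOfSet a ^^^ maskOfSet b ^^^ maskOfSet c := by
    rw [show e = ((d \ a) \ b) \ c from hcU, maskOfSet_sdiff hcsub, maskOfSet_sdiff hbsub,
      maskOfSet_sdiff (ht a ha).2, hdm]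
  have hbQ : b ∈ Q := Finset.mem_of_mem_erase hb
  have hcQ : c ∈ Q := hsub2 c hc
  have he' : e ∈ ((Q.erase a).erase b).erase c := by simp [he]
  have heQ : e ∈ Q := hsub2 e (Finset.mem_of_mem_erase he')
  simp only [Finset.mem_erase] at hb hc he'
  have hex : ∀ {u v}, u ∈ Q → v ∈ Q → u ≠ v → maskOfSet u ||| maskOfSet v ∈ hexList := by
    intro u v hu' hv' hne
    rw [← maskOfSet_union, ← mem_hexList_iff]
    exact hu u hu' v hv' hne
  refine ⟨code4 (maskOfSet a) (maskOfSet b) (maskOfSet c) (maskOfSet e), ?_, ?_⟩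
  · simp only [qEnum, List.mem_flatMap, List.mem_map, List.mem_filter, Bool.and_eq_true,
      List.contains_iff_mem]
    refine ⟨_, haf, _, ⟨hbf, hex ha hbQ hb.1.symm⟩, maskOfSet c,
      ⟨⟨hcf, hex ha hcQ hc.2.1.symm, hex hbQ hcQ hc.1.symm⟩, ?_⟩, by rw [hem]⟩
    rw [← hem]
    exact ⟨⟨⟨triple_mem (ht e heQ), hex ha heQ he'.2.2.1.symm⟩, hex hbQ heQ he'.2.1.symm⟩,
      hex hcQ heQ he'.1.symm⟩
  · have hlt := maskOfSet_lt
    have hf : four (code4 (maskOfSet a) (maskOfSet b) (maskOfSet c) (maskOfSet e)) =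
        [maskOfSet a, maskOfSet b, maskOfSet c, maskOfSet e] := by
      have h1 := hlt a; have h2' := hlt b; have h3' := hlt c; have h4' := hlt e
      simp only [four, code4, Cfsg.Agent.Lib.Computation.getW_eq]
      norm_num at h1 h2' h3' h4' ⊢
      omega
    have hQeq : Q = {a, b, c, e} := by
      rw [← Finset.insert_erase ha, ← Finset.insert_erase (show b ∈ Q.erase a from
        Finset.mem_erase.2 ⟨hb.1, hbQ⟩), ← Finset.insert_erase (show c ∈ (Q.erase a).erase b from
        Finset.mem_erase.2 ⟨hc.1, Finset.mem_erase.2 ⟨hc.2.1, hcQ⟩⟩), he]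
    rw [decQ, hf, hQeq]
    simp [Finset.image_insert, setOfMask_maskOfSet]

/-- The quartets of the base dodecad are the listed ones. -/
theorem mem_quartets_iff {Q : Finset (Finset GolayPt)} :
    Q ∈ quartets (setOfMask dod0) ↔ ∃ i < 220, decQ (getQ i) = Q := by
  constructor
  · intro h
    obtain ⟨n, hn, he⟩ := quartet_mem_enum h
    rw [qEnum_eq, List.mem_map] at hn
    obtain ⟨i, hi, rfl⟩ := hn
    exact ⟨i, List.mem_range.1 hi, he⟩
  · rintro ⟨i, hi, rfl⟩
    have key : ∀ i : Fin 220, (four (getQ i)).Nodup ∧ (∀ m ∈ four (getQ i), m ∈ tripList) ∧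
        ∀ m ∈ four (getQ i), ∀ m' ∈ four (getQ i), m ≠ m' → m ||| m' ∈ hexList := by
      decide +kernel
    obtain ⟨hnd, htr, hhx⟩ := key ⟨i, hi⟩
    simp only at hnd htr hhx
    refine ⟨?_, ?_, ?_⟩
    · rw [decQ, Finset.card_image_of_injOn, List.toFinset_card_of_nodup hnd]
      · rfl
      · intro x hx y hy h
        simp only [List.coe_toFinset, Set.mem_ofPred_eq] at hx hy
        exact setOfMask_injOn (mask_lt_of_trip (htr x hx)) (mask_lt_of_trip (htr y hy)) h
    · intro t ht
      simp only [decQ, Finset.mem_image, List.mem_toFinset] at ht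
      obtain ⟨m, hm, rfl⟩ := ht
      have hm' := List.mem_filter.1 (htr m hm)
      have h3 : pc24 m = 3 := by
        have key3 : ∀ t ∈ ksub 24 3, pc24 t = 3 := by decide +kernel
        exact key3 m hm'.1
      refine ⟨by rw [card_setOfMask, h3], ?_⟩
      rw [← Finset.inter_eq_left, ← setOfMask_and, Nat.eq_of_beq_eq_true hm'.2]
    · intro t ht u hu hne
      simp only [decQ, Finset.mem_image, List.mem_toFinset] at ht hu
      obtain ⟨m, hm, rfl⟩ := ht
      obtain ⟨m', hm', rfl⟩ := hu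
      rw [mem_hexList_iff, maskOfSet_union, maskOfSet_setOfMask (mask_lt_of_trip (htr m hm)),
        maskOfSet_setOfMask (mask_lt_of_trip (htr m' hm'))]
      exact hhx m hm m' hm' fun e => hne (by rw [e])

theorem decQ_injective : ∀ i < 220, ∀ j < 220, decQ (getQ i) = decQ (getQ j) → i = j := by
  have key : ∀ i : Fin 220, ∀ j : Fin 220,
      ((four (getQ i)).all fun m => (four (getQ j)).contains m) = true → i = j := by decide +kernel
  have hlt : ∀ i : Fin 220, ∀ m ∈ four (getQ i), m < 2 ^ 24 := by decide +kernel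
  intro i hi j hj h
  refine Fin.mk.inj_iff.1 (key ⟨i, hi⟩ ⟨j, hj⟩ ?_)
  simp only [List.all_eq_true, List.contains_iff_mem]
  intro m hm
  have : setOfMask m ∈ decQ (getQ j) :=
    h ▸ Finset.mem_image_of_mem _ (List.mem_toFinset.2 hm)
  simp only [decQ, Finset.mem_image, List.mem_toFinset] at this
  obtain ⟨m', hm', he⟩ := this
  rwa [← setOfMask_injOn (hlt ⟨j, hj⟩ m' hm') (hlt ⟨i, hi⟩ m hm) he]

theorem dodGens_ok : gensOk dodGens [dod0] = true := by decide +kernel

theorem all_orbit : orbitOk edgeQ dodGens getQ 220 allTree = true := by decide +kernel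

theorem quartets_transitive {Q Q' : Finset (Finset GolayPt)} (hQ : Q ∈ quartets (setOfMask dod0))
    (hQ' : Q' ∈ quartets (setOfMask dod0)) : ∃ g ∈ Fixes [dod0], g • Q = Q' := by
  obtain ⟨i, hi, rfl⟩ := mem_quartets_iff.1 hQ
  obtain ⟨j, hj, rfl⟩ := mem_quartets_iff.1 hQ'
  obtain ⟨g, hg, he⟩ := orbit_spec decQ (fun c hc a b h => edgeQ_spec (by
      have := List.all_eq_true.1 dodGens_ok c hc
      simp only [Bool.and_eq_true] at this
      exact okCode_of_inM24 this.1) h) all_orbit hi hj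
  exact ⟨g, gsub_le_fixes dodGens_ok hg, he⟩

theorem ncard_quartets : (quartets (setOfMask dod0)).ncard = 220 := by
  have he : quartets (setOfMask dod0) = (fun i => decQ (getQ i)) '' (Finset.range 220 : Set ℕ) := by
    ext Q
    rw [mem_quartets_iff]
    simp
  rw [he, Set.InjOn.ncard_image, Set.ncard_coe_finset, Finset.card_range]
  intro i hi j hj h
  simp only [Finset.coe_range, Set.mem_Iio] at hi hj
  exact decQ_injective i hi j hj h

/-! ### the stabiliser of the base quartet -/

/-- The base quartet. -/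
def quartet0 : Finset (Finset GolayPt) := decQ (getQ 0)

theorem quartet0_mem : quartet0 ∈ quartets (setOfMask dod0) :=
  mem_quartets_iff.2 ⟨0, by norm_num, rfl⟩

/-- Elements of the code's group fixing the base dodecad and quartet. -/
noncomputable def qStab : Subgroup (Equiv.Perm GolayPt) :=
  Fixes [dod0] ⊓ MulAction.stabilizer (Equiv.Perm GolayPt) quartet0

theorem card_left : Nat.card (gsub left_gens) = 432 := card_gsub left_check (by decide +kernel)

theorem left_le : gsub left_gens ≤ qStab := by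
  have hg : gensOk left_gens [dod0] = true := by decide +kernel
  have hq : left_gens.all (fun c => edgeQ c (getQ 0) (getQ 0)) = true := by decide +kernel
  refine le_inf (gsub_le_fixes hg) ?_
  rw [gsub, Subgroup.closure_le]
  rintro _ ⟨c, hc, rfl⟩
  have := List.all_eq_true.1 hg c hc
  simp only [Bool.and_eq_true] at this
  exact edgeQ_spec (okCode_of_inM24 this.1) (List.all_eq_true.1 hq c hc)

theorem card_qStab_le : Nat.card qStab ≤ 432 := by
  classical
  let K := Fixes [dod0]
  let St := MulAction.stabilizer ↥K quartet0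
  have h1 : Nat.card qStab = Nat.card St := Nat.card_congr
    { toFun := fun g => ⟨⟨g.1, g.2.1⟩, g.2.2⟩
      invFun := fun g => ⟨g.1.1, ⟨g.1.2, g.2⟩⟩
      left_inv := fun g => rfl
      right_inv := fun g => rfl }
  have h2 : 220 ≤ Nat.card (MulAction.orbit ↥K quartet0) := by
    let f : Fin 220 → MulAction.orbit ↥K quartet0 := fun i => ⟨decQ (getQ i), by
      obtain ⟨g, hg, he⟩ := quartets_transitive quartet0_mem
        (mem_quartets_iff.2 ⟨i, i.2, rfl⟩)
      exact ⟨⟨g, hg⟩, he⟩⟩
    have hf : Function.Injective f := fun i j h =>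
      Fin.ext (decQ_injective i i.2 j j.2 (congrArg Subtype.val h))
    simpa using Nat.card_le_card_of_injective f hf
  have h3 : Nat.card (MulAction.orbit ↥K quartet0) * Nat.card St = Nat.card K := by
    rw [← Nat.card_prod, Nat.card_congr (MulAction.orbitProdStabilizerEquivGroup ↥K quartet0)]
  have h4 : Nat.card K ≤ 95040 := card_le_dod
  rw [h1]
  have : 220 * Nat.card St ≤ 95040 :=
    le_trans (Nat.mul_le_mul_right _ h2) (h3.le.trans h4)
  omega

theorem gsub_left_eq : gsub left_gens = qStab :=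
  Subgroup.eq_of_le_of_card_ge left_le (by rw [card_left]; exact card_qStab_le)

/-- A dodecad and one of its quartets. -/
theorem norm_quartet {d : Finset GolayPt} (hd : d ∈ dodecads) {Q : Finset (Finset GolayPt)}
    (hQ : Q ∈ quartets d) : ∃ g ∈ M24, g • d = setOfMask dod0 ∧ g • Q = quartet0 := by
  obtain ⟨g, hg, he⟩ := norm_dodecad hd
  have hQ' : g • Q ∈ quartets (setOfMask dod0) := he ▸ smul_quartets hg hQ
  obtain ⟨f, hf, hfe⟩ := quartets_transitive hQ' quartet0_mem
  refine ⟨f * g, Subgroup.mul_mem _ hf.1 hg, ?_, by rw [mul_smul, hfe]⟩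
  rw [mul_smul, he, hf.2 dod0 (by simp)]

/-- The joint stabiliser, moved to the base configuration. -/
theorem exists_equiv_qStab {d : Finset GolayPt} {Q : Finset (Finset GolayPt)}
    {g : Equiv.Perm GolayPt} (hg : g ∈ M24) (hd : g • d = setOfMask dod0) (hQ : g • Q = quartet0) :
    ∃ e : ↥(MulAction.stabilizer M24 d ⊓ MulAction.stabilizer M24 Q) ≃* ↥qStab,
      ∀ x, (e x : Equiv.Perm GolayPt) = g * (x.1 : Equiv.Perm GolayPt) * g⁻¹ := by
  let H := MulAction.stabilizer M24 d ⊓ MulAction.stabilizer M24 Q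
  let f : ↥H →* Equiv.Perm GolayPt :=
    (MulAut.conj g).toMonoidHom.comp (M24.subtype.comp H.subtype)
  have hf : Function.Injective f :=
    (MulAut.conj g).injective.comp (Subtype.coe_injective.comp Subtype.coe_injective)
  have hr : f.range = qStab := by
    ext y
    constructor
    · rintro ⟨x, rfl⟩
      refine ⟨⟨Subgroup.mul_mem _ (Subgroup.mul_mem _ hg x.1.2) (Subgroup.inv_mem _ hg), ?_⟩, ?_⟩
      · intro m hm
        simp only [List.mem_singleton] at hm
        subst hm
        rw [← hd]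
        exact (conj_fix_iff g (x.1 : Equiv.Perm GolayPt) d).2 x.2.1
      · show (g * (x.1 : Equiv.Perm GolayPt) * g⁻¹) • quartet0 = quartet0
        rw [← hQ, mul_smul, mul_smul, inv_smul_smul, smul_left_cancel_iff]
        exact x.2.2
    · rintro ⟨⟨hy, hyd⟩, hyQ⟩
      refine ⟨⟨⟨g⁻¹ * y * g,
        Subgroup.mul_mem _ (Subgroup.mul_mem _ (Subgroup.inv_mem _ hg) hy) hg⟩, ?_, ?_⟩, ?_⟩
      · show (g⁻¹ * y * g) • d = d
        rw [mul_smul, mul_smul, hd, hyd dod0 (by simp), ← hd, inv_smul_smul]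
      · show (g⁻¹ * y * g) • Q = Q
        have hyQ' : y • quartet0 = quartet0 := hyQ
        rw [mul_smul, mul_smul, hQ, hyQ', ← hQ, inv_smul_smul]
      · show g * (g⁻¹ * y * g) * g⁻¹ = y
        group
  exact ⟨(MonoidHom.ofInjective hf).trans (MulEquiv.subgroupCongr hr), fun x => rfl⟩

end Cfsg.Agent.Lib.M24Config.Quartets
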